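import Mathlib
import Groth.Prelude.Def_QFDual

/-!
Associated primes of the relative dualizing module.
-/

set_option autoImplicit false
set_option linter.style.haveILetI false
set_option linter.unusedSectionVars false

universe u

open TensorProduct Submodule

namespace Groth.Agent.OmegaAss

/-- A nonzero functional on a finite module with a nontorsion element. -/
theorem exists_functional_ne_zero {Q : Type u} [CommRing Q] [IsDomain Q] {M : Type*} [AddCommGroup M]
    [Module Q M] [Module.Finite Q M] (e : M) (he : ∀ c : Q, c • e = 0 → c = 0) :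
    ∃ f : M →ₗ[Q] Q, f e ≠ 0 := by
  classical
  let K := FractionRing Q
  let ι := LocalizedModule.mkLinearMap (nonZeroDivisors Q) M
  have hι : ι e ≠ 0 := by
    intro h
    obtain ⟨c, hc⟩ := (IsLocalizedModule.eq_zero_iff (nonZeroDivisors Q) ι).mp h
    exact nonZeroDivisors.coe_ne_zero c (he c hc)
  obtain ⟨ψ, hψ⟩ := Module.Projective.exists_dual_ne_zero K hι
  let g : M →ₗ[Q] K := (ψ.restrictScalars Q).comp ι
  obtain ⟨T, hT⟩ := Module.Finite.fg_top (R := Q) (M := M)
  obtain ⟨c, hc⟩ := IsLocalization.exist_integer_multiples_of_finset (nonZeroDivisors Q) (T.image g)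
  have hr : ∀ x, ((c : Q) • g) x ∈ LinearMap.range (Algebra.linearMap Q K) := by
    intro x
    have hx : x ∈ Submodule.span Q (T : Set M) := hT ▸ Submodule.mem_top
    refine Submodule.span_induction (p := fun x _ => ((c : Q) • g) x ∈ LinearMap.range (Algebra.linearMap Q K))
      ?_ (by simp) (fun a b _ _ ha hb => by rw [map_add]; exact add_mem ha hb)
      (fun r a _ ha => by rw [map_smul]; exact Submodule.smul_mem _ _ ha) hx
    intro x hx
    obtain ⟨y, hy⟩ := hc (g x) (Finset.mem_image_of_mem g hx)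
    exact ⟨y, hy⟩
  let eQ : Q ≃ₗ[Q] LinearMap.range (Algebra.linearMap Q K) :=
    LinearEquiv.ofInjective _ (IsFractionRing.injective Q K)
  refine ⟨eQ.symm.toLinearMap.comp (((c : Q) • g).codRestrict _ hr), fun h => hψ ?_⟩
  have h2 : ((c : Q) • g) e = 0 := congrArg Subtype.val (eQ.symm.map_eq_zero_iff.mp h)
  exact (smul_eq_zero.mp h2).resolve_left (nonZeroDivisors.coe_ne_zero c)

variable {A : Type u} {B' : Type*} [CommRing A] [CommRing B'] [Algebra A B'] [IsNoetherianRing A] [Module.Finite A B']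

theorem comap_mem_associatedPrimes_of_mem_omega {q : Ideal B'}
    (hq : q ∈ associatedPrimes B' (Disc.Omega A B')) :
    q.comap (algebraMap A B') ∈ associatedPrimes A A := by
  classical
  haveI : IsNoetherianRing B' := IsNoetherianRing.of_finite A B'
  obtain ⟨hqp, φ, hφ⟩ := isAssociatedPrime_iff.mp hq
  haveI := hqp
  obtain ⟨T, hT⟩ := Module.Finite.fg_top (R := A) (M := B')
  let J : B' → Ideal A := fun t => (⊥ : Submodule A A).colon {φ.toLinearMap t}
  have hp : q.comap (algebraMap A B') = T.inf J := by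
    ext a
    rw [Ideal.mem_comap, hφ, mem_colon_singleton, mem_bot, Submodule.mem_finsetInf]
    simp only [J, mem_colon_singleton, mem_bot]
    constructor
    · intro h t _
      have h1 := congrArg (fun ψ : Disc.Omega A B' => ψ.toLinearMap t) h
      simpa [← Algebra.smul_def] using h1
    · intro h
      refine Disc.Omega.ext (LinearMap.ext_on hT fun t ht => ?_)
      simpa [← Algebra.smul_def] using h t ht
  haveI : (q.comap (algebraMap A B')).IsPrime := inferInstance
  obtain ⟨t, ht, hle⟩ := (Ideal.IsPrime.inf_le' (inferInstance : (q.comap (algebraMap A B')).IsPrime)).mp hp.ge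
  refine isAssociatedPrime_iff.mpr ⟨inferInstance, φ.toLinearMap t, le_antisymm ?_ hle⟩
  rw [hp]
  exact Finset.inf_le ht

theorem mem_associatedPrimes_omega {q : Ideal B'} [q.IsPrime]
    (h : q.comap (algebraMap A B') ∈ associatedPrimes A A) :
    q ∈ associatedPrimes B' (Disc.Omega A B') := by
  haveI : IsNoetherianRing B' := IsNoetherianRing.of_finite A B'
  obtain ⟨-, a₀, ha₀⟩ := isAssociatedPrime_iff.mp h
  let p : Ideal A := q.comap (algebraMap A B')
  haveI : q.LiesOver p := ⟨rfl⟩
  haveI : Module.Finite A (B' ⧸ q) := inferInstance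
  haveI : Module.Finite (A ⧸ p) (B' ⧸ q) := Module.Finite.of_restrictScalars_finite A _ _
  haveI : Algebra.IsIntegral (A ⧸ p) (B' ⧸ q) := inferInstance
  have hinj : Function.Injective (algebraMap (A ⧸ p) (B' ⧸ q)) := by
    rw [injective_iff_map_eq_zero]
    intro a ha
    obtain ⟨a, rfl⟩ := Ideal.Quotient.mk_surjective a
    exact Ideal.Quotient.eq_zero_iff_mem.mpr (Ideal.Quotient.eq_zero_iff_mem.mp ha : algebraMap A B' a ∈ q)
  obtain ⟨χ, hχ⟩ := exists_functional_ne_zero (Q := A ⧸ p) (1 : B' ⧸ q) fun c hc => hinj (by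
    rw [← Algebra.algebraMap_eq_smul_one] at hc
    rw [hc, map_zero])
  let ι : A ⧸ p →ₗ[A] A := Submodule.liftQ p (LinearMap.toSpanSingleton A A a₀) fun a ha => by
    have h1 : a ∈ (⊥ : Submodule A A).colon {a₀} := ha₀ ▸ ha
    simpa [mem_colon_singleton] using h1
  have hι : Function.Injective ι := by
    rw [injective_iff_map_eq_zero]
    intro a ha
    obtain ⟨a, rfl⟩ := Ideal.Quotient.mk_surjective a
    refine Ideal.Quotient.eq_zero_iff_mem.mpr ?_
    show a ∈ p
    rw [show p = _ from ha₀, mem_colon_singleton, mem_bot]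
    exact ha
  let φ : Disc.Omega A B' := ⟨ι ∘ₗ χ.restrictScalars A ∘ₗ (Ideal.Quotient.mkₐ A q).toLinearMap⟩
  refine isAssociatedPrime_iff.mpr ⟨inferInstance, φ, ?_⟩
  ext x
  rw [mem_colon_singleton, mem_bot]
  constructor
  · intro hx
    refine Disc.Omega.ext (LinearMap.ext fun y => ?_)
    have h0 : Ideal.Quotient.mk q (x * y) = 0 := Ideal.Quotient.eq_zero_iff_mem.mpr (q.mul_mem_right _ hx)
    rw [Disc.Omega.smul_toLinearMap_apply]
    change ι (χ (Ideal.Quotient.mk q (x * y))) = 0
    rw [h0, map_zero, map_zero]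
  · intro hx
    by_contra hxq
    have hxne : Ideal.Quotient.mk q x ≠ 0 := fun h0 => hxq (Ideal.Quotient.eq_zero_iff_mem.mp h0)
    obtain ⟨a, ha, ha0⟩ := Submodule.exists_mem_ne_zero_of_ne_bot
      (Ideal.IsIntegral.comap_ne_bot (R := A ⧸ p) (A := B' ⧸ q) (I := Ideal.span {Ideal.Quotient.mk q x})
        (by simpa using hxne))
    obtain ⟨c, hc⟩ := Ideal.mem_span_singleton'.mp (Ideal.mem_comap.mp ha)
    obtain ⟨c, rfl⟩ := Ideal.Quotient.mk_surjective (I := q) c
    have h1 : ι (χ (Ideal.Quotient.mk q (x * c))) = 0 := by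
      have := congrArg (fun ψ : Disc.Omega A B' => ψ.toLinearMap c) hx
      simpa [φ] using this
    rw [map_mul, mul_comm, hc, Algebra.algebraMap_eq_smul_one, map_smul, smul_eq_mul] at h1
    exact mul_ne_zero ha0 hχ (hι (h1.trans ι.map_zero.symm))


end Groth.Agent.OmegaAss
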